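import Groth.Agent.S9515
import Groth.Agent.QCoh.DevissageTheta
import Groth.Agent.QCoh.SubCompare

/-!
# The centre of the category of coherent modules
-/

universe u

set_option autoImplicit false
set_option backward.isDefEq.respectTransparency false
set_option backward.isDefEq.respectTransparency.types false

open CategoryTheory CategoryTheory.Limits AlgebraicGeometry TopologicalSpace Opposite

namespace Groth.Agent.CohGabLib

open Groth.Agent.QCoh

variable {X : Scheme.{u}} [IsNoetherian X]

/-- A natural endomorphism of the identity of coherent modules is multiplication by a unique function. -/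
theorem existsUnique_centre
    (φ : 𝟭 (ObjectProperty.FullSubcategory (fun M : X.Modules => Coh.IsCoh M)) ⟶
      𝟭 (ObjectProperty.FullSubcategory (fun M : X.Modules => Coh.IsCoh M))) :
    ∃! r : Coh.Γtop X, ∀ M : ObjectProperty.FullSubcategory (fun M : X.Modules => Coh.IsCoh M),
      (SheafOfModules.toSheaf X.ringCatSheaf).map (φ.app M).hom = Coh.smulAb M.obj r := by
  let O : ObjectProperty.FullSubcategory (fun M : X.Modules => Coh.IsCoh M) :=
    ⟨Coh.structureModule X, isCoh_structureModule'⟩
  let eO : Coh.structureModule X ⟶ Coh.structureModule X := (φ.app O).hom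
  let r : Γ(X, ⊤) := eO.app ⊤ (1 : Γ(X, ⊤))
  let rr : ∀ V : X.Opens, Γ(X, V) := fun V => X.presheaf.map (homOfLE (le_top : V ≤ ⊤)).op r
  have hO : ∀ (V : X.Opens) (a : Γ(X, V)), eO.app V a = rr V * a := fun V a => by
    have h1 : eO.app V (1 : Γ(X, V)) = rr V := by
      have h := map_app_comm eO (homOfLE (le_top : V ≤ ⊤)) (1 : Γ(X, ⊤))
      have e1 : (Coh.structureModule X).presheaf.map (homOfLE (le_top : V ≤ ⊤)).op (1 : Γ(X, ⊤)) = (1 : Γ(X, V)) :=
        map_one (X.presheaf.map (homOfLE (le_top : V ≤ ⊤)).op).hom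
      rw [e1] at h
      exact h
    refine (congrArg (eO.app V) (mul_one a).symm).trans ?_
    refine (Scheme.Modules.Hom.app_smul (M := Coh.structureModule X) eO a (1 : Γ(X, V))).trans ?_
    rw [h1]
    exact mul_comm a (rr V)
  -- sub-modules of the structure module
  have hsub : ∀ (J : X.Modules) (hJ : Coh.IsCoh J) (ι : J ⟶ Coh.structureModule X) [Mono ι] (V : X.Opens) (j : Γ(J, V)),
      (φ.app ⟨J, hJ⟩).hom.app V j = rr V • j := fun J hJ ι _ V j => by
    apply app_injective ι V
    rw [Scheme.Modules.Hom.app_smul]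
    have h := congrArg (fun f => f.hom) (φ.naturality (show (⟨J, hJ⟩ : ObjectProperty.FullSubcategory _) ⟶ O from
      ObjectProperty.homMk ι))
    exact (congr(($h).app V j) : _).symm.trans (hO V _)
  have key : ∀ (M : ObjectProperty.FullSubcategory (fun M : X.Modules => Coh.IsCoh M)) (V : X.Opens),
      IsAffineOpen V → ∀ s : Γ(M.obj, V), (φ.app M).hom.app V s = rr V • s := by
    intro M V hV s
    let U := V
    let I := Scheme.IdealSheafData.vanishingIdeal (⟨(U : Set X)ᶜ, U.2.isClosed_compl⟩ : Closeds X)
    let P := (Scheme.Modules.pushforward U.ι).obj (M.obj.restrict U.ι)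
    let adj := Scheme.Modules.restrictAdjunction U.ι
    have he : U.ι ''ᵁ (U.ι ⁻¹ᵁ (⊤ : X.Opens)) ≤ U := by
      rw [U.ι.image_preimage_eq_opensRange_inf, Scheme.Opens.opensRange_ι]
      exact inf_le_left
    let t : Γ(P, ⊤) := M.obj.presheaf.map (homOfLE he).op s
    let η := (adj.homEquiv (Coh.structureModule X) (M.obj.restrict U.ι)).symm (homOfTop t)
    obtain ⟨n, ψ, hψ⟩ := Groth.Agent.S9515.result X M.obj (Coh.structureModule X) M.property.1 isCoh_structureModule' I U
      (by rw [Scheme.IdealSheafData.coe_support_vanishingIdeal]; exact (compl_compl _).symm) η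
    let J := (Dual3.idealMul (I ^ n)).obj (Coh.structureModule X)
    let ι := Dual3.idealMulι (I ^ n) (Coh.structureModule X)
    have hJ : Coh.IsCoh J := isCoh_of_mono ι isCoh_structureModule' (isQCoh_idealMul _ isQCoh_structureModule)
    have h1 : ψ ≫ adj.unit.app M.obj = ι ≫ homOfTop t := by
      refine (adj.unit.naturality ψ).trans ?_
      show adj.unit.app J ≫ (Scheme.Modules.pushforward U.ι).map ((Scheme.Modules.restrictFunctor U.ι).map ψ) = _
      rw [hψ, Functor.map_comp, ← Category.assoc]
      have h2 := adj.unit.naturality ι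
      refine (congrArg (· ≫ (Scheme.Modules.pushforward U.ι).map η) h2.symm).trans ?_
      rw [Category.assoc]
      refine congrArg (ι ≫ ·) ?_
      exact ((adj.homEquiv_unit _ _ η).symm.trans ((adj.homEquiv _ _).apply_symm_apply _))
    have htop : I.ideal ⟨V, hV⟩ = ⊤ := (Ideal.eq_top_iff_one _).2 (by
      rw [Scheme.IdealSheafData.vanishingIdeal_ideal, PrimeSpectrum.mem_vanishingIdeal]
      exact fun q hq => absurd (hV.range_fromSpec.le (Set.mem_range_self q)) hq)
    obtain ⟨j, hj⟩ : ∃ j, (appLin ι V) j = (1 : Γ(X, V)) := by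
      have h := range_idealMul (I ^ n) (M := Coh.structureModule X) isQCoh_structureModule hV
      have h1 : (1 : Γ(X, V)) ∈ LinearMap.range (appLin ι V) := by
        rw [h, Scheme.IdealSheafData.ideal_pow, Pi.pow_apply, htop, Ideal.top_pow, Submodule.top_smul]
        trivial
      exact h1
    have hs : ψ.app V j = s := by
      apply unit_restrict_app_injective U M.obj (le_refl V)
      refine (congr(($h1).app V j) : _).trans ?_
      show (homOfTop t).app V (ι.app V j) = _
      rw [show ι.app V j = (1 : Γ(X, V)) from hj, homOfTop_app, one_smul]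
      exact (map_map (M := M.obj) _ _ s).trans (congr(($(Scheme.Modules.restrictAdjunction_unit_app_app U.ι M.obj V)) s)).symm
    have h := congrArg (fun f => f.hom) (φ.naturality (show (⟨J, hJ⟩ : ObjectProperty.FullSubcategory _) ⟶ M from
      ObjectProperty.homMk ψ))
    have h' : (φ.app M).hom.app V (ψ.app V j) = ψ.app V ((φ.app ⟨J, hJ⟩).hom.app V j) := congr(($h).app V j)
    rw [hs, hsub J hJ ι V j, Scheme.Modules.Hom.app_smul, hs] at h'
    exact h'
  refine ⟨r, fun M => ?_, fun r' hr' => ?_⟩
  · suffices h : ∀ (W : X.Opens) (s : Γ(M.obj, W)), (φ.app M).hom.app W s = rr W • s by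
      ext W s
      exact h W.unop s
    intro W s
    refine sub_eq_zero.1 (eq_zero_of_locally (M := M.obj) W _ fun p hp => ?_)
    obtain ⟨_, ⟨V, hV, rfl⟩, hpV, hle⟩ := X.isBasis_affineOpens.exists_subset_of_mem_open hp W.2
    replace hle : V ≤ W := hle
    refine ⟨V, homOfLE hle, hpV, ?_⟩
    rw [map_sub, sub_eq_zero]
    refine (map_app_comm (φ.app M).hom (homOfLE hle) s).symm.trans ((key M V hV _).trans ?_)
    rw [map_smul']
    exact congrArg (· • M.obj.presheaf.map (homOfLE hle).op s) (ringMap_map (X := X) _ _ r).symm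
  · have h := congr(($(hr' O)).hom.app (op ⊤) (1 : Γ(X, ⊤)))
    refine Eq.symm ?_
    refine (show r = _ from h).trans ?_
    show Coh.resTop X (op ⊤) r' * 1 = r'
    rw [mul_one]
    exact congr(($(X.ringCatSheaf.obj.map_id (op ⊤))) r')

end Groth.Agent.CohGabLib
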