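import Groth.Agent.CohGabLib.SerreClass
import Groth.Agent.QCoh.SubCompare

/-!
# Coherent modules with given support, and finite type Serre classes
-/

universe u

set_option autoImplicit false
set_option backward.isDefEq.respectTransparency false
set_option backward.isDefEq.respectTransparency.types false

open CategoryTheory CategoryTheory.Limits AlgebraicGeometry TopologicalSpace Opposite

namespace Groth.Agent.CohGabLib

open Groth.Agent.QCoh

variable {X : Scheme.{u}} [IsNoetherian X]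

theorem exists_coh_support (C : Closeds X) : ∃ F : X.Modules, Coh.IsCoh F ∧ CohB1.support F = (C : Set X) := by
  let J := Scheme.IdealSheafData.vanishingIdeal C
  let i := J.subschemeι
  have hrange : Set.range i = (C : Set X) := J.range_subschemeι.trans (Scheme.IdealSheafData.coe_support_vanishingIdeal ..)
  refine ⟨_, isCoh_push_structure i, (hrange ▸ support_push_subset i isQCoh_structureModule).antisymm fun y hy => ?_⟩
  obtain ⟨z, rfl⟩ := hrange.ge hy
  obtain ⟨U, hU, hzU⟩ := exists_affine_mem (i z)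
  by_contra hc
  obtain ⟨f, hf, hf0⟩ := (notMem_support_iff (isCoh_push_structure i).1 hU hzU).1 hc (1 : Γ(J.subscheme, i ⁻¹ᵁ U))
  have h1 : i.app U f = 0 := (mul_one _).symm.trans ((pushforward_smul (M := Coh.structureModule J.subscheme) i U f (1 : Γ(J.subscheme, i ⁻¹ᵁ U))).symm.trans hf0)
  have hz : z ∈ J.subscheme.basicOpen (i.app U f) := i.preimage_basicOpen f ▸ hf
  rw [h1, Scheme.basicOpen_zero] at hz
  exact hz

theorem isSerre_support (s : Set X) : IsSerre (X := X) (fun M => CohB1.support M ⊆ s) := fun S hS h₁ h₂ h₃ => by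
  show _ ⊆ s ↔ _ ⊆ s ∧ _ ⊆ s
  rw [support_shortExact hS h₁.1 h₂.1 h₃.1, Set.union_subset_iff]

theorem exists_generator (C : Closeds X) :
    ∃ F : X.Modules, Coh.IsCoh F ∧ CohB1.support F = (C : Set X) ∧ ∀ Q : ObjectProperty X.Modules, IsSerre Q → Q F →
      ∀ M : X.Modules, Coh.IsCoh M → CohB1.support M ⊆ (C : Set X) → Q M := by
  obtain ⟨F, hF, hs⟩ := exists_coh_support C
  exact ⟨F, hF, hs, fun Q hQ hQF M hM h => prop_of_support_subset hQ hF hQF hM (hs.symm ▸ h)⟩

theorem existsUnique_closed {P : ObjectProperty X.Modules} (hP : IsSerre P) {F : X.Modules} (hF : Coh.IsCoh F)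
    (hPF : P F) (hgen : ∀ Q : ObjectProperty X.Modules, IsSerre Q → Q F → ∀ M : X.Modules, Coh.IsCoh M → P M → Q M) :
    ∃! C : Closeds X, ∀ M : X.Modules, Coh.IsCoh M → (P M ↔ CohB1.support M ⊆ (C : Set X)) := by
  refine ⟨⟨CohB1.support F, isClosed_support_of_isFT hF.1 hF.2⟩, fun M hM =>
    ⟨fun h => hgen _ (isSerre_support _) le_rfl M hM h, fun h => prop_of_support_subset hP hF hPF hM h⟩, fun C hC => ?_⟩
  obtain ⟨G, hG, hGs, -⟩ := exists_generator C
  refine Closeds.ext (subset_antisymm ?_ ?_)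
  · exact hGs.ge.trans (hgen _ (isSerre_support _) le_rfl G hG ((hC G hG).2 hGs.le))
  · exact (hC F hF).1 hPF

theorem isPreirreducible_iff_serre (C : Closeds X) :
    IsPreirreducible (C : Set X) ↔
      ∀ J₁ J₂ : ObjectProperty X.Modules, IsSerre J₁ → IsSerre J₂ →
        (∀ M : X.Modules, Coh.IsCoh M → J₁ M → CohB1.support M ⊆ (C : Set X)) →
        (∀ M : X.Modules, Coh.IsCoh M → J₂ M → CohB1.support M ⊆ (C : Set X)) →
        (∀ Q : ObjectProperty X.Modules, IsSerre Q → (∀ M : X.Modules, Coh.IsCoh M → J₁ M → Q M) →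
          (∀ M : X.Modules, Coh.IsCoh M → J₂ M → Q M) →
          ∀ M : X.Modules, Coh.IsCoh M → CohB1.support M ⊆ (C : Set X) → Q M) →
        (∀ M : X.Modules, Coh.IsCoh M → CohB1.support M ⊆ (C : Set X) → J₁ M) ∨
          (∀ M : X.Modules, Coh.IsCoh M → CohB1.support M ⊆ (C : Set X) → J₂ M) := by
  haveI := hasFiniteBiproducts X
  obtain ⟨G, hG, hGs, hgen⟩ := exists_generator C
  constructor
  · intro hirr J₁ J₂ h₁ h₂ _ _ hQ
    rcases (C : Set X).eq_empty_or_nonempty with he | hne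
    · -- some object lies in one of the classes
      by_contra hnot
      rw [not_or] at hnot
      refine hQ (fun _ => False) (fun S _ _ _ _ => by simp) (fun M hM hJ => hnot.1 fun N hN hs => ?_)
        (fun M hM hJ => hnot.2 fun N hN hs => ?_) G hG hGs.le
      · exact prop_of_support_subset h₁ hM hJ hN (hs.trans (he.le.trans (Set.empty_subset _)))
      · exact prop_of_support_subset h₂ hM hJ hN (hs.trans (he.le.trans (Set.empty_subset _)))
    obtain ⟨ξ, hξ⟩ := QuasiSober.sober (⟨hne, hirr⟩ : IsIrreducible (C : Set X)) C.2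
    let W : Set X := {x | ∃ M, Coh.IsCoh M ∧ (J₁ M ∨ J₂ M) ∧ x ∈ CohB1.support M}
    have hW : CohB1.support G ⊆ W := hQ _ (isSerre_support W)
      (fun M hM h x hx => ⟨M, hM, Or.inl h, hx⟩) (fun M hM h x hx => ⟨M, hM, Or.inr h, hx⟩) G hG hGs.le
    obtain ⟨M, hM, hJ, hxM⟩ := hW (hGs.ge hξ.mem)
    have hsub : (C : Set X) ⊆ CohB1.support M := by
      rw [← hξ]
      exact (isClosed_support_of_isFT hM.1 hM.2).closure_subset_iff.2 (Set.singleton_subset_iff.2 hxM)
    rcases hJ with hJ | hJ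
    · exact Or.inl fun N hN hs => prop_of_support_subset h₁ hM hJ hN (hs.trans hsub)
    · exact Or.inr fun N hN hs => prop_of_support_subset h₂ hM hJ hN (hs.trans hsub)
  · intro h
    refine isPreirreducible_iff_isClosed_union_isClosed.2 fun z₁ z₂ hz₁ hz₂ hsub => ?_
    let C₁ : Closeds X := ⟨z₁ ∩ C, hz₁.inter C.2⟩
    let C₂ : Closeds X := ⟨z₂ ∩ C, hz₂.inter C.2⟩
    obtain ⟨G₁, hG₁, hs₁, -⟩ := exists_generator C₁
    obtain ⟨G₂, hG₂, hs₂, -⟩ := exists_generator C₂
    rcases h (fun M => CohB1.support M ⊆ (C₁ : Set X)) (fun M => CohB1.support M ⊆ (C₂ : Set X)) (isSerre_support _)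
      (isSerre_support _) (fun M _ hM => hM.trans Set.inter_subset_right) (fun M _ hM => hM.trans Set.inter_subset_right)
      (fun Q hQ q₁ q₂ M hM hMs => by
        have hS : (ShortComplex.mk (biprod.inl : G₁ ⟶ G₁ ⊞ G₂) biprod.snd biprod.inl_snd).ShortExact :=
          (ShortComplex.Splitting.ofHasBinaryBiproduct _ _).shortExact
        have hB : Coh.IsCoh (G₁ ⊞ G₂) := by
          refine isCoh_iff.2 ⟨isQCoh_X₂ hS hG₁.1 hG₂.1, fun U => ?_⟩
          haveI := finite_sections hG₁ U.2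
          haveI := finite_sections hG₂ U.2
          refine Module.Finite.of_surjective ((appLin (biprod.inl : G₁ ⟶ G₁ ⊞ G₂) U.1).coprod
            (appLin (biprod.inr : G₂ ⟶ G₁ ⊞ G₂) U.1)) fun z =>
              ⟨((biprod.fst : G₁ ⊞ G₂ ⟶ G₁).app U.1 z, (biprod.snd : G₁ ⊞ G₂ ⟶ G₂).app U.1 z), ?_⟩
          exact congr(($(biprod.total (X := G₁) (Y := G₂))).app U.1 z)
        refine prop_of_support_subset hQ hB ((hQ _ hS hG₁ hB hG₂).2 ⟨q₁ _ hG₁ hs₁.le, q₂ _ hG₂ hs₂.le⟩) hM ?_
        rw [support_shortExact hS hG₁.1 hB.1 hG₂.1, hs₁, hs₂]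
        exact hMs.trans fun x hx => (hsub hx).imp (fun h => ⟨h, hx⟩) fun h => ⟨h, hx⟩) with h' | h'
    · exact Or.inl fun x hx => ((h' G hG hGs.le) (hGs.ge hx)).1
    · exact Or.inr fun x hx => ((h' G hG hGs.le) (hGs.ge hx)).1

end Groth.Agent.CohGabLib
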