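import Mathlib.CategoryTheory.Localization.CalculusOfFractions

/-!
# A criterion for being a localization functor
-/

open CategoryTheory

namespace Groth.Agent.CohGabLib

variable {C D : Type*} [Category C] [Category D]

/-- An essentially surjective functor is a localization at the morphisms it inverts as soon as morphisms lift
along inverted morphisms and equalities lift along inverted morphisms. -/
theorem isLocalization_of_exists_lift (F : C ⥤ D) (hess : F.EssSurj)
    (hlift : ∀ {A B : C} (φ : F.obj A ⟶ F.obj B), ∃ (A' : C) (s : A' ⟶ A) (f : A' ⟶ B),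
      IsIso (F.map s) ∧ F.map f = F.map s ≫ φ)
    (heq : ∀ {A B : C} (f g : A ⟶ B), F.map f = F.map g →
      ∃ (A' : C) (s : A' ⟶ A), IsIso (F.map s) ∧ s ≫ f = s ≫ g) :
    F.IsLocalization ((MorphismProperty.isomorphisms D).inverseImage F) := by
  let W := (MorphismProperty.isomorphisms D).inverseImage F
  have hW : W.IsInvertedBy F := fun _ _ _ h => h
  haveI : W.HasRightCalculusOfFractions :=
    { exists_rightFraction := fun X Y φ => by
        have : IsIso (F.map φ.s) := φ.hs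
        obtain ⟨A', t, g, ht, hg⟩ := hlift (F.map φ.f ≫ inv (F.map φ.s))
        obtain ⟨A'', t', ht', he⟩ := heq (g ≫ φ.s) (t ≫ φ.f) (by
          simp only [Functor.map_comp, hg, Category.assoc, IsIso.inv_hom_id, Category.comp_id])
        refine ⟨{ s := t' ≫ t, f := t' ≫ g, hs := ?_ }, ?_⟩
        · show IsIso (F.map (t' ≫ t))
          rw [F.map_comp]
          infer_instance
        · simp only [Category.assoc, he]
      ext := fun X Y Y' f₁ f₂ s hs h => by
        have : IsIso (F.map s) := hs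
        obtain ⟨A', t, ht, he⟩ := heq f₁ f₂ (by
          rw [← cancel_mono (F.map s), ← F.map_comp, ← F.map_comp, h])
        exact ⟨A', t, ht, he⟩ }
  let G := Localization.lift F hW W.Q
  let e : W.Q ⋙ G ≅ F := Localization.fac F hW W.Q
  have := Localization.essSurj W.Q W
  have nat : ∀ {A B : C} (f : A ⟶ B), G.map (W.Q.map f) = e.hom.app A ≫ F.map f ≫ e.inv.app B := fun f => by
    rw [← reassoc_of% (e.hom.naturality f)]
    simp
  have hfull : G.Full := ⟨fun {P R} φ => by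
    obtain ⟨A, ⟨eA⟩⟩ : ∃ A, Nonempty (W.Q.obj A ≅ P) := ⟨_, ⟨W.Q.objObjPreimageIso P⟩⟩
    obtain ⟨B, ⟨eB⟩⟩ : ∃ B, Nonempty (W.Q.obj B ≅ R) := ⟨_, ⟨W.Q.objObjPreimageIso R⟩⟩
    obtain ⟨A', s, f, hs, hf⟩ := hlift (e.inv.app A ≫ G.map eA.hom ≫ φ ≫ G.map eB.inv ≫ e.hom.app B)
    have := hs
    have := Localization.inverts W.Q W s hs
    refine ⟨eA.inv ≫ inv (W.Q.map s) ≫ W.Q.map f ≫ eB.hom, ?_⟩
    apply (cancel_epi (G.map eA.hom)).1
    apply (cancel_mono (G.map eB.inv)).1
    simp only [← G.map_comp, Category.assoc, Iso.hom_inv_id_assoc, Iso.hom_inv_id, Category.comp_id]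
    simp only [G.map_comp, Category.assoc]
    apply (cancel_epi (G.map (W.Q.map s))).1
    rw [← G.map_comp_assoc, IsIso.hom_inv_id, G.map_id, Category.id_comp, nat, nat, hf]
    simp⟩
  have hfaith : G.Faithful := ⟨fun {P R} φ ψ h => by
    obtain ⟨A, ⟨eA⟩⟩ : ∃ A, Nonempty (W.Q.obj A ≅ P) := ⟨_, ⟨W.Q.objObjPreimageIso P⟩⟩
    obtain ⟨B, ⟨eB⟩⟩ : ∃ B, Nonempty (W.Q.obj B ≅ R) := ⟨_, ⟨W.Q.objObjPreimageIso R⟩⟩
    rw [← cancel_epi eA.hom, ← cancel_mono eB.inv]
    obtain ⟨a, ha⟩ := Localization.exists_rightFraction W.Q W ((eA.hom ≫ φ) ≫ eB.inv)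
    have := Localization.inverts W.Q W a.s a.hs
    obtain ⟨b, hb⟩ := Localization.exists_rightFraction W.Q W (W.Q.map a.s ≫ (eA.hom ≫ ψ) ≫ eB.inv)
    have := Localization.inverts W.Q W b.s b.hs
    apply (cancel_epi (W.Q.map a.s)).1
    apply (cancel_epi (W.Q.map b.s)).1
    have e₁ : W.Q.map b.s ≫ W.Q.map a.s ≫ (eA.hom ≫ φ) ≫ eB.inv = W.Q.map (b.s ≫ a.f) := by
      rw [ha, MorphismProperty.RightFraction.map_s_comp_map, W.Q.map_comp]
    have e₂ : W.Q.map b.s ≫ W.Q.map a.s ≫ (eA.hom ≫ ψ) ≫ eB.inv = W.Q.map b.f := by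
      rw [hb, MorphismProperty.RightFraction.map_s_comp_map]
    have e₃ : G.map (W.Q.map (b.s ≫ a.f)) = G.map (W.Q.map b.f) := by
      rw [← e₁, ← e₂]
      simp only [G.map_comp, h]
    rw [nat, nat, cancel_epi, cancel_mono] at e₃
    obtain ⟨A', t, ht, he⟩ := heq _ _ e₃
    have := Localization.inverts W.Q W t ht
    rw [e₁, e₂, ← cancel_epi (W.Q.map t), ← W.Q.map_comp, ← W.Q.map_comp, he]⟩
  have hes : G.EssSurj := ⟨fun Y => ⟨W.Q.obj (F.objPreimage Y), ⟨e.app _ ≪≫ F.objObjPreimageIso Y⟩⟩⟩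
  have : G.IsEquivalence := { faithful := hfaith, full := hfull, essSurj := hes }
  exact Functor.IsLocalization.of_equivalence_target W.Q W F G.asEquivalence e

end Groth.Agent.CohGabLib
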