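import Groth.Agent.S9515
import Groth.Agent.QCoh.DevissageIdeal
import Groth.Agent.CohGabLib.LocCrit

/-!
# Restriction of coherent modules to an open subscheme is a localization
-/

universe u

set_option autoImplicit false
set_option backward.isDefEq.respectTransparency false
set_option backward.isDefEq.respectTransparency.types false

open CategoryTheory CategoryTheory.Limits AlgebraicGeometry TopologicalSpace Opposite

namespace Groth.Agent.CohGabLib

open Groth.Agent.QCoh

variable {X : Scheme.{u}} {U : X.Opens}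

theorem image_preimage_of_le {V : X.Opens} (hV : V ≤ U) : U.ι ''ᵁ (U.ι ⁻¹ᵁ V) = V := by
  rw [U.ι.image_preimage_eq_opensRange_inf, Scheme.Opens.opensRange_ι, inf_eq_right.2 hV]

theorem bijective_app_of_isIso_restrict {A B : X.Modules} (f : A ⟶ B)
    [IsIso ((Scheme.Modules.restrictFunctor U.ι).map f)] {V : X.Opens} (hV : V ≤ U) :
    Function.Bijective (f.app V) := by
  have h : ∀ W, U.ι ''ᵁ (U.ι ⁻¹ᵁ V) = W → Function.Bijective (f.app W) := by
    rintro _ rfl
    exact ConcreteCategory.bijective_of_isIso (((Scheme.Modules.restrictFunctor U.ι).map f).app (U.ι ⁻¹ᵁ V))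
  exact h V (image_preimage_of_le hV)

theorem isIso_restrict_of_bijective {A B : X.Modules} (f : A ⟶ B)
    (h : ∀ V : X.Opens, V ≤ U → IsAffineOpen V → Function.Bijective (f.app V)) :
    IsIso ((Scheme.Modules.restrictFunctor U.ι).map f) := by
  refine isIso_of_isBasis _ U.toScheme.isBasis_affineOpens fun V hV => ?_
  refine h (U.ι ''ᵁ V) ?_ (IsAffineOpen.image_of_isOpenImmersion hV U.ι)
  rintro _ ⟨q, -, rfl⟩
  exact q.2

/-- Sections of the kernel. -/
theorem exists_kernel_section {A B : X.Modules} (f : A ⟶ B) {V : X.Opens} (a : Γ(A, V)) (h : f.app V a = 0) :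
    ∃ k, (kernel.ι f).app V k = a := by
  refine exists_app_f_eq (S := ShortComplex.mk (kernel.ι f) (Abelian.coimage.π f) (cokernel.condition _))
    (.mk' (ShortComplex.exact_of_g_is_cokernel _ (cokernelIsCokernel _)) inferInstance inferInstance) V a ?_
  refine app_injective (Abelian.factorThruCoimage f) V ?_
  rw [map_zero]
  exact (congr(($(Abelian.coimage.fac f)).app V a) : _).trans h

variable [IsNoetherian X]

theorem isIso_restrict_iff {A B : X.Modules} (hA : Coh.IsCoh A) (hB : Coh.IsCoh B) (f : A ⟶ B) :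
    IsIso ((Scheme.Modules.restrictFunctor U.ι).map f) ↔
      CohB1.support (kernel f) ⊆ (↑U : Set X)ᶜ ∧ CohB1.support (cokernel f) ⊆ (↑U : Set X)ᶜ := by
  have hK := isCoh_kernel hA hB f
  have hC := isCoh_cokernel hA.1 hB f
  constructor
  · intro hiso
    refine ⟨fun x hx hxU => ?_, fun x hx hxU => ?_⟩
    · obtain ⟨_, ⟨V, hV, rfl⟩, hxV, hVU⟩ := X.isBasis_affineOpens.exists_subset_of_mem_open hxU U.2
      refine (notMem_support_iff hK.1 hV hxV).2 (fun z => ⟨1, ?_, ?_⟩) hx
      · rw [Scheme.basicOpen_of_isUnit _ isUnit_one]; exact hxV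
      refine (one_smul _ _).trans (app_injective (kernel.ι f) V ((bijective_app_of_isIso_restrict f hVU).1 ?_))
      rw [map_zero, map_zero]
      exact congr(($(kernel.condition f)).app V z)
    · obtain ⟨_, ⟨V, hV, rfl⟩, hxV, hVU⟩ := X.isBasis_affineOpens.exists_subset_of_mem_open hxU U.2
      refine (notMem_support_iff hC.1 hV hxV).2 (fun z => ⟨1, ?_, ?_⟩) hx
      · rw [Scheme.basicOpen_of_isUnit _ isUnit_one]; exact hxV
      obtain ⟨g, rfl⟩ := app_surjective_of_epi hB.1 hC.1 (cokernel.π f) hV z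
      obtain ⟨w, rfl⟩ := (bijective_app_of_isIso_restrict f hVU).2 g
      exact (one_smul _ _).trans (congr(($(cokernel.condition f)).app V w))
  · rintro ⟨hk, hc⟩
    refine isIso_restrict_of_bijective f fun V hVU hV => ?_
    constructor
    · refine (injective_iff_map_eq_zero _).2 fun a ha => ?_
      obtain ⟨k, rfl⟩ := exists_kernel_section f a ha
      refine eq_zero_of_locally V _ fun q hq => ?_
      obtain ⟨r, hr, hr0⟩ := (notMem_support_iff hK.1 hV hq).1 (fun h => hk h (hVU hq)) k
      refine ⟨_, homOfLE (X.basicOpen_le r), hr, ?_⟩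
      rw [← map_app_comm, res_eq_zero_of_smul_eq_zero _ r le_rfl k hr0, map_zero]
    · intro y
      have h0 : (cokernel.π f).app V y = 0 := eq_zero_of_locally V _ fun q hq => by
        obtain ⟨r, hr, hr0⟩ := (notMem_support_iff hC.1 hV hq).1 (fun h => hc h (hVU hq)) ((cokernel.π f).app V y)
        exact ⟨_, homOfLE (X.basicOpen_le r), hr, res_eq_zero_of_smul_eq_zero _ r le_rfl _ hr0⟩
      obtain ⟨z, rfl⟩ := exists_kernel_section (cokernel.π f) y h0
      obtain ⟨w, rfl⟩ := app_surjective_of_epi hA.1 (isQCoh_kernel hB.1 hC.1 _) (Abelian.factorThruImage f) hV z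
      exact ⟨w, (congr(($(Abelian.image.fac f)).app V w) : _).symm⟩

theorem isLocalization_restrict
    (hres : ∀ M : X.Modules, Coh.IsCoh M → Coh.IsCoh ((Scheme.Modules.restrictFunctor U.ι).obj M)) :
    (ObjectProperty.lift (fun N : (↑U : Scheme.{u}).Modules => Coh.IsCoh N)
        (ObjectProperty.ι (fun M : X.Modules => Coh.IsCoh M) ⋙ Scheme.Modules.restrictFunctor U.ι)
        (fun M => hres M.obj M.property)).IsLocalization
      (fun (A B : ObjectProperty.FullSubcategory (fun M : X.Modules => Coh.IsCoh M)) (f : A ⟶ B) =>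
        CohB1.support (kernel f.hom) ⊆ (↑U : Set X)ᶜ ∧
          CohB1.support (cokernel f.hom) ⊆ (↑U : Set X)ᶜ) := by
  let R := Scheme.Modules.restrictFunctor U.ι
  let P : ObjectProperty X.Modules := fun M => Coh.IsCoh M
  let P' : ObjectProperty (↑U : Scheme.{u}).Modules := fun N => Coh.IsCoh N
  let F : P.FullSubcategory ⥤ P'.FullSubcategory :=
    ObjectProperty.lift P' (P.ι ⋙ R) (fun M => hres M.obj M.property)
  have hiso : ∀ {A B : P.FullSubcategory} (f : A ⟶ B), IsIso (F.map f) ↔ IsIso (R.map f.hom) := by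
    intro A B f
    constructor
    · intro h
      exact inferInstanceAs (IsIso (P'.ι.map (F.map f)))
    · intro h
      haveI : IsIso (P'.ι.map (F.map f)) := h
      exact isIso_of_reflects_iso (F.map f) P'.ι
  have hWeq : (MorphismProperty.isomorphisms _).inverseImage F =
      (fun (A B : P.FullSubcategory) (f : A ⟶ B) => CohB1.support (kernel f.hom) ⊆ (↑U : Set X)ᶜ ∧
          CohB1.support (cokernel f.hom) ⊆ (↑U : Set X)ᶜ) := by
    ext A B f
    exact (hiso f).trans (isIso_restrict_iff A.property B.property f.hom)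
  show F.IsLocalization _
  rw [← hWeq]
  let I := Scheme.IdealSheafData.vanishingIdeal (⟨(U : Set X)ᶜ, U.2.isClosed_compl⟩ : Closeds X)
  refine isLocalization_of_exists_lift F ⟨fun N => ?_⟩ (fun {A B} φ => ?_) (fun {A B} f g hfg => ?_)
  · obtain ⟨E, h1, h2, ⟨e⟩⟩ := exists_extension_abs (extStep_noetherian (fun x => ⟨⊤, trivial, inferInstance⟩) U)
      N.obj N.property.1 N.property.2
    exact ⟨⟨E, h1, h2⟩, ⟨P'.isoMk e⟩⟩
  · obtain ⟨n, ψ, hψ⟩ := Groth.Agent.S9515.result X B.obj A.obj B.property.1 A.property I U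
      (by rw [Scheme.IdealSheafData.coe_support_vanishingIdeal]; exact (compl_compl _).symm) φ.hom
    let ι := Dual3.idealMulι (I ^ n) A.obj
    haveI : Mono ι := equalizer.ι_mono
    have hJ : Coh.IsCoh ((Dual3.idealMul (I ^ n)).obj A.obj) :=
      isCoh_of_mono ι A.property (isQCoh_idealMul _ A.property.1)
    have hι : IsIso (R.map ι) := by
      refine isIso_restrict_of_bijective ι fun V hVU hV => ⟨app_injective ι V, fun a => ?_⟩
      have htop : I.ideal ⟨V, hV⟩ = ⊤ := (Ideal.eq_top_iff_one _).2 (by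
        rw [Scheme.IdealSheafData.vanishingIdeal_ideal, PrimeSpectrum.mem_vanishingIdeal]
        exact fun q hq => absurd (hVU (hV.range_fromSpec.le (Set.mem_range_self q))) hq)
      have h1 : a ∈ LinearMap.range (appLin ι V) := by
        rw [range_idealMul (I ^ n) (M := A.obj) A.property.1 hV, Scheme.IdealSheafData.ideal_pow, Pi.pow_apply,
          htop, Ideal.top_pow, Submodule.top_smul]
        trivial
      exact h1
    refine ⟨⟨_, hJ⟩, ObjectProperty.homMk ι, ObjectProperty.homMk ψ, (hiso _).2 hι, ?_⟩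
    exact P'.ι.map_injective hψ
  · haveI := hasFiniteBiproducts X
    let h := f.hom - g.hom
    have hK : Coh.IsCoh (kernel h) := isCoh_kernel A.property B.property h
    have h0 : R.map f.hom = R.map g.hom := congrArg (fun z => z.hom) hfg
    refine ⟨⟨kernel h, hK⟩, ObjectProperty.homMk (kernel.ι h), (hiso _).2 ?_, ?_⟩
    · refine isIso_restrict_of_bijective _ fun V hVU _ => ⟨app_injective (kernel.ι h) V, fun a => ?_⟩
      refine exists_kernel_section h a ?_
      show f.hom.app V a - g.hom.app V a = 0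
      have hW : ∀ W, U.ι ''ᵁ (U.ι ⁻¹ᵁ V) = W → ∀ y : Γ(A.obj, W), f.hom.app W y = g.hom.app W y := by
        rintro _ rfl y
        exact congr(($h0).app (U.ι ⁻¹ᵁ V) y)
      rw [hW V (image_preimage_of_le hVU) a, sub_self]
    · apply P.ι.map_injective
      show kernel.ι h ≫ f.hom = kernel.ι h ≫ g.hom
      rw [← sub_eq_zero, ← Preadditive.comp_sub]
      exact kernel.condition h

end Groth.Agent.CohGabLib
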