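import Groth.Agent.QCoh.DevissageTheta
import Groth.Agent.ZClosLib.CohDescent

/-!
# Serre classes of coherent modules and supports
-/

universe u

set_option autoImplicit false
set_option backward.isDefEq.respectTransparency false
set_option backward.isDefEq.respectTransparency.types false

open CategoryTheory CategoryTheory.Limits AlgebraicGeometry TopologicalSpace Opposite

namespace Groth.Agent.CohGabLib

open Groth.Agent.QCoh

variable {X : Scheme.{u}}

/-- Serre classes on coherent modules, in the spelled out form of the statements. -/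
def IsSerre (Q : ObjectProperty X.Modules) : Prop :=
  ∀ S : ShortComplex X.Modules, S.ShortExact → Coh.IsCoh S.X₁ → Coh.IsCoh S.X₂ →
          Coh.IsCoh S.X₃ → (Q S.X₂ ↔ Q S.X₁ ∧ Q S.X₃)

theorem epi_unit_closed {Z : Scheme.{u}} (i : Z ⟶ X) [IsClosedImmersion i] {F : X.Modules} (hF : Coh.IsQCoh F) :
    Epi ((Scheme.Modules.pullbackPushforwardAdjunction i).unit.app F) :=
  Preadditive.epi_of_cancel_zero _ fun {W} g hg => hom_eq_zero_of_affine g fun V hV y => by
    obtain ⟨x, rfl⟩ := (unit_app_closed i hF hV).1 y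
    exact congr(($hg).app V x)

theorem shortExact_kernel {M N : X.Modules} (f : M ⟶ N) [Epi f] :
    (ShortComplex.mk (kernel.ι f) f (kernel.condition f)).ShortExact :=
  .mk' (ShortComplex.exact_of_f_is_kernel _ (kernelIsKernel f)) inferInstance inferInstance

/-- The support in a short exact sequence is the union of the outer supports. -/
theorem support_shortExact {S : ShortComplex X.Modules} (hS : S.ShortExact) (h₁ : Coh.IsQCoh S.X₁)
    (h₂ : Coh.IsQCoh S.X₂) (h₃ : Coh.IsQCoh S.X₃) :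
    CohB1.support S.X₂ = CohB1.support S.X₁ ∪ CohB1.support S.X₃ := by
  haveI := hS.mono_f
  haveI := hS.epi_g
  refine subset_antisymm (fun x hx => ?_)
    (Set.union_subset (mem_support_of_mono h₁ h₂ S.f) (support_of_epi h₂ h₃ S.g))
  by_contra hc
  rw [Set.mem_union, not_or] at hc
  obtain ⟨U, hU, hxU⟩ := exists_affine_mem x
  refine (notMem_support_iff h₂ hU hxU).2 (fun m => ?_) hx
  obtain ⟨f, hf, hf0⟩ := (notMem_support_iff h₃ hU hxU).1 hc.2 (S.g.app U m)
  obtain ⟨w, hw⟩ := exists_app_f_eq hS U (f • m) (by rw [Scheme.Modules.Hom.app_smul, hf0])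
  obtain ⟨f', hf', hf0'⟩ := (notMem_support_iff h₁ hU hxU).1 hc.1 w
  refine ⟨f' * f, ?_, ?_⟩
  · rw [Scheme.basicOpen_mul]; exact ⟨hf', hf⟩
  · rw [mul_smul, ← hw, ← Scheme.Modules.Hom.app_smul, hf0', map_zero]

variable [IsNoetherian X] {Q : ObjectProperty X.Modules} (hQ : IsSerre Q) {F : X.Modules} (hF : Coh.IsCoh F) (hQF : Q F)

include hQ hF hQF in
theorem prop_isZero {M : X.Modules} (h : IsZero M) (hM : Coh.IsCoh M) : Q M :=
  ((hQ (ShortComplex.mk (0 : M ⟶ F) (𝟙 F) zero_comp) (.mk' (by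
      rw [ShortComplex.exact_iff_mono _ (h.eq_of_src _ _)]
      infer_instance) ⟨fun g g' _ => h.eq_of_tgt g g'⟩ inferInstance) hM hF hF).1 hQF).1

include hQ hF hQF in
theorem prop_of_iso {M N : X.Modules} (e : M ≅ N) (hM : Coh.IsCoh M) (hN : Coh.IsCoh N) (h : Q M) : Q N := by
  haveI := hasFiniteBiproducts X
  have h0 : Coh.IsCoh (kernel e.hom) := isCoh_of_mono (kernel.ι e.hom) hM (isQCoh_kernel hM.1 hN.1 e.hom)
  exact ((hQ _ (shortExact_kernel e.hom) h0 hM hN).1 h).2

include hQ hF hQF in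
/-- A Serre class containing `F` contains the ideals on integral closed subschemes in the support of `F`,
given all smaller modules. -/
theorem prop_push_ideal {Z : Scheme.{u}} (i : Z ⟶ X) [IsClosedImmersion i] [IsIntegral Z]
    (hξ : i (genericPoint Z) ∈ CohB1.support F)
    (hsmall : ∀ M : X.Modules, Coh.IsCoh M → CohB1.support M ⊆ closure {i (genericPoint Z)} →
      i (genericPoint Z) ∉ CohB1.support M → Q M)
    {I : Z.Modules} (ι : I ⟶ Coh.structureModule Z) [Mono ι] (hI : Coh.IsQCoh I) (hI0 : ¬ IsZero I) :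
    Q ((Coh.push i).obj I) := by
  classical
  haveI := hasFiniteBiproducts X
  haveI : IsNoetherian Z :=
    { __ := LocallyOfFiniteType.isLocallyNoetherian i
      __ := QuasiCompact.compactSpace_of_compactSpace i }
  have hIc : Coh.IsCoh I := isCoh_of_mono ι isCoh_structureModule' hI
  let ξ := i (genericPoint Z)
  -- `G = F / p F`
  let Jξ := Scheme.IdealSheafData.vanishingIdeal (Closeds.closure {ξ})
  haveI : IsNoetherian Jξ.subscheme :=
    { __ := LocallyOfFiniteType.isLocallyNoetherian Jξ.subschemeι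
      __ := QuasiCompact.compactSpace_of_compactSpace Jξ.subschemeι }
  let G := (Scheme.Modules.pullback Jξ.subschemeι ⋙ Scheme.Modules.pushforward Jξ.subschemeι).obj F
  let v : F ⟶ G := (Scheme.Modules.pullbackPushforwardAdjunction Jξ.subschemeι).unit.app F
  haveI : Epi v := epi_unit_closed Jξ.subschemeι hF.1
  have hG : Coh.IsCoh G := isCoh_push Jξ.subschemeι (ZClosLib.isCoh_pullback Jξ.subschemeι hF)
  have hkv : Coh.IsCoh (kernel v) := isCoh_of_mono (kernel.ι v) hF (isQCoh_kernel hF.1 hG.1 v)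
  have hQG : Q G := ((hQ _ (shortExact_kernel v) hkv hF hG).1 hQF).2
  obtain ⟨U, hU, hξU⟩ := exists_affine_mem ξ
  have hp : ∀ a : Γ(X, U), a ∈ Jξ.subschemeι.ker.ideal ⟨U, hU⟩ ↔ ξ ∉ X.basicOpen a := fun a => by
    rw [Scheme.IdealSheafData.ker_subschemeι]
    exact mem_vanishing_closure_iff ξ (V := ⟨U, hU⟩) a
  have hann : ∀ a ∈ IsLocalRing.maximalIdeal (X.presheaf.stalk ξ), ∀ m : G.presheaf.stalk ξ, a • m = 0 := by
    letI := stalkAlg (X := X) hξU
    letI := stalkModule G hξU
    haveI := isScalarTower_stalk G hξU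
    haveI := isLocalization_stalk' hU hξU
    haveI := isLocalizedModule_germLin hG.1 hU hξU
    intro a ha m
    obtain ⟨⟨n, r⟩, hr⟩ := IsLocalizedModule.surj (hU.primeIdealOf ⟨ξ, hξU⟩).asIdeal.primeCompl (germLin G hξU) m
    obtain ⟨⟨b, c⟩, hb⟩ := IsLocalization.surj (hU.primeIdealOf ⟨ξ, hξU⟩).asIdeal.primeCompl a
    have hbξ : ξ ∉ X.basicOpen b := fun h => by
      have hu := (X.mem_basicOpen b ξ hξU).1 h
      rw [show X.presheaf.germ U ξ hξU b = algebraMap Γ(X, U) (X.presheaf.stalk ξ) b from rfl, ← hb] at hu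
      exact (IsLocalRing.mem_maximalIdeal _).1 ha (isUnit_of_mul_isUnit_left hu)
    obtain ⟨x, rfl⟩ := (unit_app_closed Jξ.subschemeι hF.1 hU).1 n
    have h0 : b • v.app U x = 0 := by
      rw [← Scheme.Modules.Hom.app_smul]
      exact ((unit_app_closed Jξ.subschemeι hF.1 hU).2 (b • x)).2
        (Submodule.smul_mem_smul ((hp b).2 hbξ) Submodule.mem_top)
    have hru : IsUnit (algebraMap Γ(X, U) (X.presheaf.stalk ξ) r.1) := IsLocalization.map_units _ r
    have hcu : IsUnit (algebraMap Γ(X, U) (X.presheaf.stalk ξ) c.1) := IsLocalization.map_units _ c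
    refine (hru.mul hcu).smul_eq_zero.1 ?_
    rw [smul_smul, mul_comm _ a, ← mul_assoc, mul_comm a, mul_assoc,
      show a * algebraMap Γ(X, U) (X.presheaf.stalk ξ) c.1 = algebraMap Γ(X, U) (X.presheaf.stalk ξ) b from hb,
      mul_comm, mul_smul, algebraMap_smul (X.presheaf.stalk ξ) r.1 m,
      show r.1 • m = germLin G hξU (v.app U x) from hr, algebraMap_smul (X.presheaf.stalk ξ) b, ← map_smul]
    exact (congrArg (germLin G hξU) h0).trans (map_zero _)
  have hξG : ξ ∈ CohB1.support G := by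
    by_contra hc
    refine (notMem_support_iff hF.1 hU hξU).2 (fun m => ?_) hξ
    haveI := finite_sections hF hU
    have h := (notMem_support_iff hG.1 hU hξU).1 hc
    obtain ⟨g, hg⟩ := (inferInstance : Module.Finite Γ(X, U) Γ(F, U)).fg_top
    choose f hf hf0 using fun y : Γ(F, U) => h (v.app U y)
    let a := ∏ y ∈ g, f y
    have ha : ξ ∈ X.basicOpen a := (X.mem_basicOpen _ ξ hξU).2 (by
      rw [map_prod]
      exact IsUnit.prod_iff.2 fun y _ => (X.mem_basicOpen (f y) ξ hξU).1 (hf y))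
    let p := Jξ.subschemeι.ker.ideal ⟨U, hU⟩
    have hle : ∀ y : Γ(F, U), a • y ∈ p • (⊤ : Submodule Γ(X, U) Γ(F, U)) := fun y => by
      have hy : y ∈ Submodule.span Γ(X, U) (g : Set Γ(F, U)) := hg ▸ Submodule.mem_top
      induction hy using Submodule.span_induction with
      | mem z hz =>
        refine ((unit_app_closed Jξ.subschemeι hF.1 hU).2 (a • z)).1 ?_
        obtain ⟨w, hw⟩ := Finset.dvd_prod_of_mem f (show z ∈ g from hz)
        rw [Scheme.Modules.Hom.app_smul, show a = w * f z from hw.trans (mul_comm _ _), mul_smul,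
          show f z • ((Scheme.Modules.pullbackPushforwardAdjunction Jξ.subschemeι).unit.app F).app U z = 0 from hf0 z, smul_zero]
      | zero => rw [smul_zero]; exact zero_mem _
      | add z z' _ _ hz hz' => rw [smul_add]; exact add_mem hz hz'
      | smul c z _ hz => rw [smul_comm]; exact Submodule.smul_mem _ _ hz
    -- Cayley-Hamilton
    have hTop : LinearMap.range (algebraMap Γ(X, U) (Module.End Γ(X, U) Γ(F, U)) a) ≤ p • ⊤ := by
      rintro _ ⟨y, rfl⟩; exact hle y
    obtain ⟨c, hc1, hc2⟩ : ∃ c : Γ(X, U), ξ ∈ X.basicOpen c ∧ ∀ y : Γ(F, U), c • y = 0 := by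
      obtain ⟨P, hPm, -, hPc, hP0⟩ := LinearMap.exists_monic_and_natDegree_eq_and_coeff_mem_pow_and_aeval_eq_zero
        Γ(X, U) (algebraMap Γ(X, U) (Module.End Γ(X, U) Γ(F, U)) a) p hTop
      refine ⟨P.eval a, ?_, fun y => ?_⟩
      · by_contra hξc
        have hmem : ∀ k < P.natDegree, P.coeff k ∈ (hU.primeIdealOf ⟨ξ, hξU⟩).asIdeal := fun k hk => by
          have := Ideal.pow_le_self (I := p) (Nat.sub_ne_zero_of_lt hk) (hPc k)
          exact not_not.1 fun hn => (hp _).1 this ((mem_basicOpen_iff_notMem hU hξU _).2 hn)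
        have hev : P.eval a ∈ (hU.primeIdealOf ⟨ξ, hξU⟩).asIdeal :=
          not_not.1 fun hn => hξc ((mem_basicOpen_iff_notMem hU hξU _).2 hn)
        rw [Polynomial.eval_eq_sum_range, Finset.sum_range_succ, hPm.coeff_natDegree, one_mul] at hev
        have hsum := Ideal.sum_mem (hU.primeIdealOf ⟨ξ, hξU⟩).asIdeal fun k (hk : k ∈ Finset.range P.natDegree) =>
          Ideal.mul_mem_right (a ^ k) _ (hmem k (Finset.mem_range.1 hk))
        exact (mem_basicOpen_iff_notMem hU hξU a).1 ha
          ((inferInstance : (hU.primeIdealOf ⟨ξ, hξU⟩).asIdeal.IsPrime).mem_of_pow_mem _ ((Ideal.add_mem_iff_right _ hsum).1 hev))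
      · rw [Polynomial.aeval_algebraMap_apply, Polynomial.coe_aeval_eq_eval] at hP0
        exact LinearMap.congr_fun hP0 y
    exact ⟨c, hc1, hc2 m⟩
  -- the submodule agreeing with `G` at `ξ`
  obtain ⟨r, hr0, J, u, hJ, hu, hmain⟩ := exists_ideal_mul hG i hξG hann ι hIc hI0
  haveI : Epi u := hu ▸ epi_unit_closed _ hG.1
  haveI : IsNoetherian J.subscheme :=
    { __ := LocallyOfFiniteType.isLocallyNoetherian J.subschemeι
      __ := QuasiCompact.compactSpace_of_compactSpace J.subschemeι }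
  have hT : Coh.IsCoh ((Scheme.Modules.pullback J.subschemeι ⋙ Scheme.Modules.pushforward J.subschemeι).obj G) :=
    isCoh_push J.subschemeι (ZClosLib.isCoh_pullback J.subschemeι hG)
  have hG'q : Coh.IsQCoh (kernel u) := isQCoh_kernel hG.1 hT.1 u
  have hG'c : Coh.IsCoh (kernel u) := isCoh_of_mono (kernel.ι u) hG hG'q
  have hξT : ξ ∉ CohB1.support ((Scheme.Modules.pullback J.subschemeι ⋙ Scheme.Modules.pushforward J.subschemeι).obj G) :=
    fun h => hJ (J.range_subschemeι ▸ support_push_subset J.subschemeι (ZClosLib.isCoh_pullback J.subschemeι hG).1 h)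
  obtain ⟨t, ht, hc⟩ := hmain (kernel u) (kernel.ι u) inferInstance hG'q (kernel.condition u) (fun z => by
    obtain ⟨W, hξW, m, rfl⟩ := TopCat.Presheaf.exists_germ_eq G.presheaf z
    obtain ⟨_, ⟨V, hV, rfl⟩, hξV, hVW⟩ := X.isBasis_affineOpens.exists_subset_of_mem_open hξW W.2
    let mV := G.presheaf.map (homOfLE hVW).op m
    obtain ⟨f, hf, hf0⟩ := (notMem_support_iff hT.1 hV hξV).1 hξT (u.app V mV)
    obtain ⟨w, hw⟩ := exists_app_f_eq (shortExact_kernel u) V (f • mV)
      (by rw [Scheme.Modules.Hom.app_smul]; exact hf0)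
    have hu' : IsUnit (X.presheaf.germ V ξ hξV f) := (X.mem_basicOpen f ξ hξV).1 hf
    obtain ⟨b, hb⟩ := hu'.exists_left_inv
    obtain ⟨V', hV', bb, rfl⟩ := TopCat.Presheaf.exists_germ_eq X.presheaf b
    let V'' := V ⊓ V'
    refine ⟨(kernel u).presheaf.germ V'' ξ ⟨hξV, hV'⟩
      ((X.presheaf.map (homOfLE inf_le_right).op bb : Γ(X, V'')) • (kernel u).presheaf.map (homOfLE inf_le_left).op w), ?_⟩
    rw [TopCat.Presheaf.stalkFunctor_map_germ_apply]
    show G.presheaf.germ V'' ξ _ ((kernel.ι u).app V'' _) = _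
    have h2 : (kernel.ι u).app V'' ((kernel u).presheaf.map (homOfLE inf_le_left).op w) =
        G.presheaf.map (homOfLE inf_le_left).op ((kernel.ι u).app V w) :=
      map_app_comm (kernel.ι u) (homOfLE inf_le_left) w
    rw [Scheme.Modules.Hom.app_smul, h2, germ_smul', show (kernel.ι u).app V w = f • mV from hw,
      TopCat.Presheaf.germ_res_apply, TopCat.Presheaf.germ_res_apply, germ_smul', smul_smul, hb, one_smul]
    exact TopCat.Presheaf.germ_res_apply _ _ _ _ _)
  haveI := ht
  have hkι : Coh.IsCoh (cokernel (kernel.ι u)) := isCoh_cokernel hG'q hG _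
  have hQG' : Q (kernel u) := ((hQ _ (shortExact_kernel u) hG'c hG hT).1 hQG).1
  let S : ULift.{u} (Fin r) → X.Modules := fun _ => (Coh.push i).obj I
  have hpI : Coh.IsCoh ((Coh.push i).obj I) := isCoh_push i hIc
  have hS : Coh.IsCoh (⨁ S) := isCoh_biproduct S fun _ => hpI
  have hC := isCoh_cokernel hG'q hS t
  have hSs : CohB1.support (⨁ S) ⊆ closure {ξ} := fun x hx => by
    by_contra hx'
    obtain ⟨W, hW, hxW⟩ := exists_affine_mem x
    refine ((notMem_support_iff hS.1 hW hxW).2 fun m => ?_) hx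
    have hAx := (notMem_support_iff hpI.1 hW hxW).1 fun h => hx' ((support_push_ideal i ι hI hI0).le h)
    choose f hf hf0 using fun k => hAx ((biproduct.π S k).app W m)
    refine ⟨∏ k, f k, ?_, ?_⟩
    · rw [X.mem_basicOpen _ x hxW, map_prod]
      exact IsUnit.prod_univ_iff.2 fun k => (X.mem_basicOpen (f k) x hxW).1 (hf k)
    · rw [biproduct_app_decomp S W m, Finset.smul_sum]
      refine Finset.sum_eq_zero fun k _ => ?_
      rw [← Scheme.Modules.Hom.app_smul, ← Finset.mul_prod_erase _ f (Finset.mem_univ k), mul_comm,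
        mul_smul, hf0 k, smul_zero, map_zero]
  have hsum : Q (⨁ S) :=
    (hQ (ShortComplex.mk t (cokernel.π t) (cokernel.condition t))
      (.mk' (ShortComplex.exact_of_g_is_cokernel _ (cokernelIsCokernel t)) ht inferInstance) hG'c hS hC).2
      ⟨hQG', hsmall _ hC ((support_of_epi hS.1 hC.1 (cokernel.π t)).trans hSs) hc⟩
  let π := biproduct.π S ⟨⟨0, hr0⟩⟩
  haveI : Epi π := inferInstance
  exact ((hQ _ (shortExact_kernel π) (isCoh_of_mono (kernel.ι π) hS (isQCoh_kernel hS.1 hpI.1 π)) hS hpI).1 hsum).2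

include hQ hF hQF in
/-- A Serre class containing `F` contains all coherent modules supported in the support of `F`. -/
theorem prop_of_support_subset {M : X.Modules} (hM : Coh.IsCoh M) (h : CohB1.support M ⊆ CohB1.support F) : Q M := by
  haveI := hasFiniteBiproducts X
  refine devissage_ideals (fun N => Coh.IsCoh N → Q N)
    (fun A B ⟨e⟩ hA hB => ?_) (fun A hA0 hA => prop_isZero hQ hF hQF hA0 hA) (CohB1.support F)
    (fun S hS h₁ h₂ h₃ p₁ p₃ _ => (hQ S hS h₁ h₂ h₃).2 ⟨p₁ h₁, p₃ h₃⟩)
    (fun ξ hξ hsmall Z i _ _ hr I ι hι hI hI0 _ => ?_) hM h hM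
  · have hA' : Coh.IsCoh A := isCoh_of_mono e.hom hB ((isQCoh_iff_iso e).2 hB.1)
    exact prop_of_iso hQ hF hQF e hA' hB (hA hA')
  · haveI := hι
    have he : closure {i (genericPoint Z)} = closure {ξ} := (range_eq_closure i).symm.trans hr
    exact prop_push_ideal hQ hF hQF i (hξ (he.le (subset_closure rfl)))
      (fun N hN hNs hNξ => hsmall N hN (hNs.trans he.le) (fun h' => hNξ (by
        have hs : ξ ⤳ i (genericPoint Z) := specializes_iff_mem_closure.2 (he.le (subset_closure rfl))
        exact stableUnderSpecialization_support hN.1 hs h')) hN) ι hI hI0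

end Groth.Agent.CohGabLib
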